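import Cfsg.Agent.Lib.KnownB.Flags.Blocks
import Cfsg.Agent.Lib.Chars.PermChar

/-!
Orbits on pairs of flags of `GL_n(q)` and on pairs of cosets of Young subgroups: both are classified by the
matrices with given row and column sums.
-/

set_option autoImplicit false

namespace CfsgLib.KnownB.Flags

open Finset Matrix

universe u v

/-- Orbits on a product of two coset spaces. -/
abbrev PairOrbits {G : Type v} [Group G] (H K : Subgroup G) : Type v :=
  MulAction.orbitRel.Quotient G ((G ⧸ H) × (G ⧸ K))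

section Group

variable {G : Type v} [Group G] (H K : Subgroup G)

/-- The orbit of the pair of cosets of `1` and `a`. -/
def orbitOf (a : G) : PairOrbits H K :=
  Quotient.mk'' ((QuotientGroup.mk 1 : G ⧸ H), (QuotientGroup.mk a : G ⧸ K))

theorem orbitOf_eq_iff {a b : G} : orbitOf H K a = orbitOf H K b ↔ ∃ k ∈ H, a⁻¹ * k * b ∈ K := by
  rw [orbitOf, orbitOf, Quotient.eq'', MulAction.orbitRel_apply, MulAction.mem_orbit_iff]
  constructor
  · rintro ⟨g, hg⟩
    simp only [Prod.smul_mk, Prod.mk.injEq, MulAction.Quotient.smul_mk, smul_eq_mul, mul_one, QuotientGroup.eq] at hg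
    refine ⟨g, inv_mem_iff.1 hg.1, ?_⟩
    have h := inv_mem hg.2
    simpa [mul_assoc] using h
  · rintro ⟨k, hk, hk'⟩
    refine ⟨k, ?_⟩
    simp only [Prod.smul_mk, Prod.mk.injEq, MulAction.Quotient.smul_mk, smul_eq_mul, mul_one, QuotientGroup.eq]
    refine ⟨inv_mem hk, ?_⟩
    have h := inv_mem hk'
    simpa [mul_assoc] using h

theorem orbitOf_surjective : Function.Surjective (orbitOf H K) := by
  intro o
  induction o using Quotient.inductionOn' with
  | h p =>
    obtain ⟨x, y⟩ := p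
    induction x using QuotientGroup.induction_on with
    | H x =>
      induction y using QuotientGroup.induction_on with
      | H y =>
        refine ⟨x⁻¹ * y, ?_⟩
        rw [orbitOf, Quotient.eq'', MulAction.orbitRel_apply, MulAction.mem_orbit_iff]
        exact ⟨x⁻¹, by simp [MulAction.Quotient.smul_mk]⟩

theorem inner_fixedPointCharacter [Fintype G] :
    Cfsg.classInner (Cfsg.fixedPointCharacter H) (Cfsg.fixedPointCharacter K) = (Nat.card (PairOrbits H K) : ℂ) := by
  rw [← CfsgLib.Chars.inner_fixedBy_one (G := G) (X := (G ⧸ H) × (G ⧸ K))]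
  unfold Cfsg.classInner
  congr 1
  refine Finset.sum_congr rfl fun g _ => ?_
  simp only [map_one, mul_one, Cfsg.fixedPointCharacter, map_natCast]
  rw [← Nat.cast_mul, ← Nat.card_prod]
  congr 1
  exact Nat.card_congr ⟨fun p => ⟨(p.1.1, p.2.1), Prod.ext p.1.2 p.2.2⟩,
    fun p => (⟨p.1.1, congrArg Prod.fst p.2⟩, ⟨p.1.2, congrArg Prod.snd p.2⟩), fun _ => rfl, fun _ => rfl⟩

end Group

theorem card_eq_of_fibres {P A B : Type*} (π : P → A) (f : P → B) (hπ : Function.Surjective π)
    (hf : Function.Surjective f) (h : ∀ p q, π p = π q ↔ f p = f q) : Nat.card A = Nat.card B := by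
  refine Nat.card_congr (Equiv.ofBijective (fun a => f (Function.surjInv hπ a)) ⟨fun a b hab => ?_, fun b => ?_⟩)
  · have := (h _ _).2 hab
    rwa [Function.surjInv_eq hπ, Function.surjInv_eq hπ] at this
  · obtain ⟨p, rfl⟩ := hf b
    exact ⟨π p, (h _ _).1 (Function.surjInv_eq hπ _)⟩

variable {n : ℕ} {α β : Fin n → ℕ}

/-- Matrices with given row and column sums. -/
abbrev Margins (α β : Fin n → ℕ) : Type :=
  {N : Fin n → Fin n → ℕ // (∀ i, ∑ j, N i j = α i) ∧ ∀ j, ∑ i, N i j = β j}

/-- The intersection matrix of two block partitions moved by `σ`. -/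
def interMat (hα : ∑ i, α i = n) (hβ : ∑ i, β i = n) (σ : Equiv.Perm (Fin n)) : Margins α β :=
  ⟨fun i j => (univ.filter fun x => (blk hα x, blk hβ (σ.symm x)) = (i, j)).card, by
    refine ⟨fun i => ?_, fun j => ?_⟩
    · rw [← card_blk_eq hα i, card_eq_sum_card_fiberwise (f := fun x => blk hβ (σ.symm x)) (t := univ)
        fun x _ => mem_univ _]
      refine sum_congr rfl fun j _ => ?_
      rw [filter_filter]
      simp only [Prod.mk.injEq]
    · rw [← card_blk_eq hβ j, ← card_map σ.toEmbedding (s := univ.filter fun i => blk hβ i = j),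
        card_eq_sum_card_fiberwise (f := blk hα) (t := univ) fun x _ => mem_univ _]
      refine sum_congr rfl fun i _ => ?_
      dsimp only
      congr 1
      ext x
      simp only [mem_filter, mem_univ, true_and, Prod.mk.injEq, mem_map_equiv]
      exact and_comm⟩

theorem interMat_apply (hα : ∑ i, α i = n) (hβ : ∑ i, β i = n) (σ : Equiv.Perm (Fin n)) (i j : Fin n) :
    (interMat hα hβ σ).1 i j = (univ.filter fun x => (blk hα x, blk hβ (σ.symm x)) = (i, j)).card := rfl

theorem interMat_eq_iff (hα : ∑ i, α i = n) (hβ : ∑ i, β i = n) (σ τ : Equiv.Perm (Fin n)) :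
    (∃ k ∈ Cfsg.youngSubgroup α, σ⁻¹ * k * τ ∈ Cfsg.youngSubgroup β) ↔ interMat hα hβ σ = interMat hα hβ τ := by
  simp only [mem_young_iff hα, mem_young_iff hβ]
  constructor
  · rintro ⟨k, hk, hk'⟩
    refine Subtype.ext (funext fun i => funext fun j => ?_)
    rw [interMat_apply, interMat_apply, ← card_map k.toEmbedding
      (s := univ.filter fun x => (blk hα x, blk hβ (τ.symm x)) = (i, j))]
    congr 1
    ext x
    have h1 := hk (k.symm x)
    have h2 := hk' (τ.symm (k.symm x))
    simp only [Equiv.apply_symm_apply] at h1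
    simp only [Equiv.Perm.mul_apply, Equiv.apply_symm_apply] at h2
    simp only [mem_filter, mem_univ, true_and, mem_map_equiv, ← h1, ← h2, Equiv.Perm.inv_def]
  · intro h
    have hcard : ∀ p : Fin n × Fin n, Fintype.card {x // (blk hα x, blk hβ (τ.symm x)) = p} =
        Fintype.card {x // (blk hα x, blk hβ (σ.symm x)) = p} := fun p => by
      rw [Fintype.card_subtype, Fintype.card_subtype]
      exact (congrFun (congrFun (congrArg Subtype.val h) p.1) p.2).symm
    refine ⟨Equiv.ofFiberEquiv fun p => Fintype.equivOfCardEq (hcard p), fun x => ?_, fun x => ?_⟩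
    · exact congrArg Prod.fst (Equiv.ofFiberEquiv_map (fun p => Fintype.equivOfCardEq (hcard p)) x)
    · have := congrArg Prod.snd (Equiv.ofFiberEquiv_map (fun p => Fintype.equivOfCardEq (hcard p)) (τ x))
      simpa [Equiv.Perm.inv_def] using this

theorem interMat_surjective (hα : ∑ i, α i = n) (hβ : ∑ i, β i = n) :
    Function.Surjective (interMat hα hβ) := by
  intro N
  let T := Σ p : Fin n × Fin n, Fin (N.1 p.1 p.2)
  have h1 : ∀ i, Fintype.card {x // blk hα x = i} = Fintype.card {t : T // t.1.1 = i} := fun i => by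
    rw [Fintype.card_subtype, card_blk_eq, ← N.2.1 i]
    rw [Fintype.card_congr (β := Σ j, Fin (N.1 i j))
      ⟨fun t => ⟨t.1.1.2, Fin.cast (congrArg (fun z => N.1 z t.1.1.2) t.2) t.1.2⟩, fun s => ⟨⟨(i, s.1), s.2⟩, rfl⟩,
        fun ⟨⟨⟨a, b⟩, c⟩, h⟩ => by cases h; rfl, fun s => rfl⟩, Fintype.card_sigma]
    simp
  have h2 : ∀ j, Fintype.card {x // blk hβ x = j} = Fintype.card {t : T // t.1.2 = j} := fun j => by
    rw [Fintype.card_subtype, card_blk_eq, ← N.2.2 j]
    rw [Fintype.card_congr (β := Σ i, Fin (N.1 i j))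
      ⟨fun t => ⟨t.1.1.1, Fin.cast (congrArg (fun z => N.1 t.1.1.1 z) t.2) t.1.2⟩, fun s => ⟨⟨(s.1, j), s.2⟩, rfl⟩,
        fun ⟨⟨⟨a, b⟩, c⟩, h⟩ => by cases h; rfl, fun s => rfl⟩, Fintype.card_sigma]
    simp
  let e : Fin n ≃ T := Equiv.ofFiberEquiv fun i => Fintype.equivOfCardEq (h1 i)
  let e' : Fin n ≃ T := Equiv.ofFiberEquiv fun j => Fintype.equivOfCardEq (h2 j)
  have he : ∀ x, (e x).1.1 = blk hα x := fun x => Equiv.ofFiberEquiv_map (fun i => Fintype.equivOfCardEq (h1 i)) x
  have he' : ∀ x, (e' x).1.2 = blk hβ x := fun x => Equiv.ofFiberEquiv_map (fun j => Fintype.equivOfCardEq (h2 j)) x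
  refine ⟨e'.trans e.symm, Subtype.ext (funext fun i => funext fun j => ?_)⟩
  have hx : ∀ x, (blk hα x, blk hβ ((e'.trans e.symm).symm x)) = (e x).1 := fun x => by
    refine Prod.ext (he x).symm ?_
    show blk hβ (e'.symm (e x)) = _
    rw [← he', Equiv.apply_symm_apply]
  rw [interMat_apply]
  simp only [hx]
  rw [← Fintype.card_subtype, Fintype.card_congr (e.subtypeEquiv (q := fun t : T => t.1 = (i, j)) fun x => Iff.rfl),
    Fintype.card_congr (Equiv.sigmaSubtype (i, j)), Fintype.card_fin]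

theorem card_pairOrbits_young (hα : ∑ i, α i = n) (hβ : ∑ i, β i = n) :
    Nat.card (PairOrbits (Cfsg.youngSubgroup α) (Cfsg.youngSubgroup β)) = Nat.card (Margins α β) :=
  card_eq_of_fibres (orbitOf _ _) (interMat hα hβ) (orbitOf_surjective _ _) (interMat_surjective hα hβ)
    fun σ τ => (orbitOf_eq_iff _ _).trans (interMat_eq_iff hα hβ σ τ)

/-! ### The general linear group -/

variable (F : Type u) [Field F]

/-- Permutation matrices. -/
def permGL : Equiv.Perm (Fin n) →* GL (Fin n) F :=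
  ({ toFun := fun σ => Matrix.of fun i j => if σ.symm i = j then (1 : F) else 0
     map_one' := Matrix.ext fun i j => by simp only [Matrix.one_apply, Matrix.of_apply, Equiv.Perm.one_def, Equiv.refl_symm, Equiv.refl_apply]; split_ifs <;> simp_all
     map_mul' := fun σ τ => Matrix.ext fun i j => by
      rw [Matrix.mul_apply, Finset.sum_eq_single (σ.symm i)]
      · simp [Equiv.Perm.mul_def]; split_ifs <;> simp_all
      · intro k _ hk
        simp [Ne.symm hk]
      · simp } : Equiv.Perm (Fin n) →* Matrix (Fin n) (Fin n) F).toHomUnits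

theorem permGL_apply (σ : Equiv.Perm (Fin n)) (i j : Fin n) :
    (permGL F σ : Matrix (Fin n) (Fin n) F) i j = if σ.symm i = j then 1 else 0 := rfl

theorem permGL_mulVec (σ : Equiv.Perm (Fin n)) (v : Fin n → F) (i : Fin n) :
    ((permGL F σ : Matrix (Fin n) (Fin n) F) *ᵥ v) i = v (σ.symm i) := by
  simp [Matrix.mulVec, dotProduct, permGL_apply]

variable {F}

/-- Bruhat decomposition. -/
theorem bruhat (g : GL (Fin n) F) :
    ∃ (b c : GL (Fin n) F) (σ : Equiv.Perm (Fin n)), (b : Matrix (Fin n) (Fin n) F).BlockTriangular id ∧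
      (c : Matrix (Fin n) (Fin n) F).BlockTriangular id ∧ g * b = c * permGL F σ := by
  classical
  set A : Matrix (Fin n) (Fin n) F := (g : Matrix (Fin n) (Fin n) F)
  let P : Fin n → Fin n → Prop := fun j k =>
    ∃ w : Fin n → F, (∀ x, j < x → w x = 0) ∧ w j ≠ 0 ∧ ∀ x, k < x → (A *ᵥ w) x = 0
  have hlast : ∀ w : Fin n → F, w ≠ 0 → ∃ k, (A *ᵥ w) k ≠ 0 ∧ ∀ x, k < x → (A *ᵥ w) x = 0 := by
    intro w hw
    have hne : (univ.filter fun x => (A *ᵥ w) x ≠ 0).Nonempty := by
      by_contra h
      rw [not_nonempty_iff_eq_empty] at h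
      refine hw ?_
      have h0 : A *ᵥ w = 0 := funext fun x => by
        by_contra hx
        have : x ∈ univ.filter fun x => (A *ᵥ w) x ≠ 0 := by simpa using hx
        rw [h] at this
        simp at this
      have := congrArg (((g⁻¹ : GL (Fin n) F) : Matrix (Fin n) (Fin n) F) *ᵥ ·) h0
      simpa [A, Matrix.mulVec_mulVec] using this
    refine ⟨(univ.filter fun x => (A *ᵥ w) x ≠ 0).max' hne, (mem_filter.1 (max'_mem _ hne)).2, fun x hx => ?_⟩
    by_contra h
    exact absurd (le_max' _ x (by simpa using h)) (not_le.2 hx)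
  have hP : ∀ j, ∃ k, P j k ∧ ∀ k', P j k' → k ≤ k' := fun j => by
    obtain ⟨k, -, hk⟩ := hlast (Pi.single j 1) (by simp)
    have hne : (univ.filter (P j)).Nonempty :=
      ⟨k, mem_filter.2 ⟨mem_univ _, Pi.single j 1, fun x hx => by simp [ne_of_gt hx], by simp, hk⟩⟩
    exact ⟨_, (mem_filter.1 (min'_mem _ hne)).2, fun k' hk' => min'_le _ _ (by simpa using hk')⟩
  choose p hp hmin using hP
  choose w hw1 hw2 hw3 using hp
  have hpk : ∀ j, (A *ᵥ w j) (p j) ≠ 0 := fun j h => by
    obtain ⟨k, hk, hk'⟩ := hlast (w j) (fun h0 => hw2 j (congrFun h0 j))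
    have hkp : k < p j := by
      rcases lt_trichotomy k (p j) with h' | h' | h'
      · exact h'
      · exact absurd (h' ▸ h) hk
      · exact absurd (hw3 j k h') hk
    exact absurd (hmin j k ⟨w j, hw1 j, hw2 j, hk'⟩) (not_le.2 hkp)
  have hinj : ∀ j l, j < l → p j ≠ p l := fun j l hjl h => by
    set t := (A *ᵥ w l) (p l) / (A *ᵥ w j) (p j)
    set w' := w l - t • w j
    have hl : w' l = w l l := by simp [w', hw1 j l hjl]
    obtain ⟨k, hk, hk'⟩ := hlast w' (fun h0 => hw2 l (by rw [← hl, h0]; rfl))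
    have hsupp : ∀ x, p l ≤ x → (A *ᵥ w') x = 0 := fun x hx => by
      simp only [w', Matrix.mulVec_sub, Matrix.mulVec_smul, Pi.sub_apply, Pi.smul_apply, smul_eq_mul]
      rcases hx.lt_or_eq with hx | rfl
      · rw [hw3 l x hx, hw3 j x (h ▸ hx), mul_zero, sub_zero]
      · simp only [t, h]
        rw [div_mul_cancel₀ _ (h ▸ hpk j), sub_self]
    have hkl : k < p l := not_le.1 fun h' => hk (hsupp k h')
    refine absurd (hmin l k ⟨w', fun x hx => ?_, by rw [hl]; exact hw2 l, hk'⟩) (not_le.2 hkl)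
    simp [w', hw1 l x hx, hw1 j x (hjl.trans hx)]
  have hbij : Function.Bijective p := Finite.injective_iff_bijective.1 fun j l h => by
    rcases lt_trichotomy j l with h' | h' | h'
    · exact absurd h (hinj j l h')
    · exact h'
    · exact absurd h.symm (hinj l j h')
  let σ := Equiv.ofBijective p hbij
  let B : Matrix (Fin n) (Fin n) F := Matrix.of fun i j => w j i
  have hB : B.BlockTriangular id := fun i j hij => hw1 j i hij
  have hdet : B.det ≠ 0 := by
    rw [Matrix.det_of_isUpperTriangular hB]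
    exact prod_ne_zero_iff.2 fun j _ => hw2 j
  let b := GeneralLinearGroup.mkOfDetNeZero B hdet
  refine ⟨b, g * b * (permGL F σ)⁻¹, σ, hB, fun i k hik => ?_, by rw [inv_mul_cancel_right]⟩
  show (A * B * ((permGL F σ)⁻¹ : GL (Fin n) F).val) i k = 0
  rw [← map_inv, Matrix.mul_apply, sum_eq_single (σ.symm k)]
  · have hAB : (A * B) i (σ.symm k) = (A *ᵥ w (σ.symm k)) i := rfl
    rw [hAB, hw3 _ i (by rw [show p (σ.symm k) = k from σ.apply_symm_apply k]; exact hik), zero_mul]
  · intro x _ hx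
    rw [permGL_apply, if_neg, mul_zero]
    intro h
    apply hx
    rw [← h]
    simp [Equiv.Perm.inv_def]
  · simp

variable (hα : ∑ i, α i = n) (hβ : ∑ i, β i = n)

include hα in
theorem upper_mem_parabolic {b : GL (Fin n) F} (hb : (b : Matrix (Fin n) (Fin n) F).BlockTriangular id) :
    b ∈ Cfsg.parabolicGL n F α :=
  (mem_parabolic_iff hα).2 fun i j hij => hb (show j < i from not_le.1 fun h => not_lt.2 (blk_mono hα h) hij)

include hα in
theorem permGL_mem_parabolic {k : Equiv.Perm (Fin n)} (hk : k ∈ Cfsg.youngSubgroup α) :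
    permGL F k ∈ Cfsg.parabolicGL n F α := by
  refine (mem_parabolic_iff hα).2 fun i j hij => ?_
  rw [permGL_apply, if_neg]
  rintro rfl
  have := (mem_young_iff hα).1 hk (k.symm i)
  rw [Equiv.apply_symm_apply] at this
  exact absurd this.symm (ne_of_lt hij)

theorem parabolic_mulVec_supp {g : GL (Fin n) F} (hg : g ∈ Cfsg.parabolicGL n F α) {v : Fin n → F} {a : Fin n}
    (hv : ∀ x, a < blk hα x → v x = 0) :
    ∀ x, a < blk hα x → ((g : Matrix (Fin n) (Fin n) F) *ᵥ v) x = 0 := fun x hx => by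
  rw [Matrix.mulVec, dotProduct]
  refine sum_eq_zero fun y _ => ?_
  by_cases hy : a < blk hα y
  · rw [hv y hy, mul_zero]
  · rw [(mem_parabolic_iff hα).1 hg (lt_of_le_of_lt (not_lt.1 hy) hx), zero_mul]

include F in
theorem prefix_le [Fintype F] {σ τ : Equiv.Perm (Fin n)}
    (h : orbitOf (Cfsg.parabolicGL n F α) (Cfsg.parabolicGL n F β) (permGL F σ) =
      orbitOf (Cfsg.parabolicGL n F α) (Cfsg.parabolicGL n F β) (permGL F τ)) (a b : Fin n) :
    (univ.filter fun x => blk hα x ≤ a ∧ blk hβ (τ.symm x) ≤ b).card ≤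
      (univ.filter fun x => blk hα x ≤ a ∧ blk hβ (σ.symm x) ≤ b).card := by
  classical
  obtain ⟨k, hk, hk'⟩ := (orbitOf_eq_iff _ _).1 h
  let S : Equiv.Perm (Fin n) → Type u := fun ρ =>
    {v : Fin n → F // ∀ x, ¬ (blk hα x ≤ a ∧ blk hβ (ρ.symm x) ≤ b) → v x = 0}
  have hcard : ∀ ρ, Nat.card (S ρ) =
      Fintype.card F ^ (univ.filter fun x => blk hα x ≤ a ∧ blk hβ (ρ.symm x) ≤ b).card := fun ρ => by
    rw [Nat.card_congr (β := {x // blk hα x ≤ a ∧ blk hβ (ρ.symm x) ≤ b} → F)
      ⟨fun v x => v.1 x.1, fun f => ⟨fun x => if hx : _ then f ⟨x, hx⟩ else 0, fun x hx => dif_neg hx⟩,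
        fun v => Subtype.ext (funext fun x => by by_cases hx : blk hα x ≤ a ∧ blk hβ (ρ.symm x) ≤ b <;>
          simp [hx, v.2 x]),
        fun f => funext fun x => by simp [x.2]⟩,
      Nat.card_fun, Nat.card_eq_fintype_card, Nat.card_eq_fintype_card, Fintype.card_subtype]
  let φ : S τ → S σ := fun v => ⟨(k : Matrix (Fin n) (Fin n) F) *ᵥ v.1, fun x hx => by
    by_cases hxa : a < blk hα x
    · exact parabolic_mulVec_supp hα hk (fun y hy => v.2 y fun h => not_lt.2 h.1 hy) x hxa
    · have hxb : b < blk hβ (σ.symm x) := not_le.1 fun h' => hx ⟨not_lt.1 hxa, h'⟩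
      have h1 : (k : Matrix (Fin n) (Fin n) F) *ᵥ v.1 = (permGL F σ : Matrix (Fin n) (Fin n) F) *ᵥ
          ((((permGL F σ)⁻¹ * k * permGL F τ : GL (Fin n) F) : Matrix (Fin n) (Fin n) F) *ᵥ (v.1 ∘ τ)) := by
        rw [Matrix.mulVec_mulVec, ← Units.val_mul, mul_assoc (permGL F σ)⁻¹, mul_inv_cancel_left, Units.val_mul,
          ← Matrix.mulVec_mulVec]
        congr 1
        funext y
        rw [permGL_mulVec]
        simp
      rw [h1, permGL_mulVec]
      refine parabolic_mulVec_supp hβ hk' (fun y hy => v.2 (τ y) fun h => ?_) _ hxb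
      rw [Equiv.symm_apply_apply] at h
      exact not_lt.2 h.2 hy⟩
  have hφ : Function.Injective φ := fun v w hvw => Subtype.ext <| by
    have := congrArg (((k⁻¹ : GL (Fin n) F) : Matrix (Fin n) (Fin n) F) *ᵥ ·) (congrArg Subtype.val hvw)
    simpa [φ, Matrix.mulVec_mulVec] using this
  have h1 := Nat.card_le_card_of_injective φ hφ
  rw [hcard, hcard] at h1
  exact (Nat.pow_le_pow_iff_right Fintype.one_lt_card).1 h1

theorem eq_of_prefix {N N' : Fin n → Fin n → ℕ}
    (h : ∀ a b, ∑ p ∈ Iic a ×ˢ Iic b, N p.1 p.2 = ∑ p ∈ Iic a ×ˢ Iic b, N' p.1 p.2) : N = N' := by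
  suffices key : ∀ (s : ℕ) (a b : Fin n), a.val + b.val = s → N a b = N' a b from
    funext fun a => funext fun b => key _ a b rfl
  intro s
  induction s using Nat.strong_induction_on with
  | _ s ih =>
    intro a b hs
    have hmem : (a, b) ∈ Iic a ×ˢ Iic b := by simp
    have := h a b
    rw [← add_sum_erase _ _ hmem, ← add_sum_erase _ _ hmem,
      sum_congr rfl (g := fun p => N' p.1 p.2) fun p hp => ?_] at this
    · exact Nat.add_right_cancel this
    · obtain ⟨hne, hp⟩ := mem_erase.1 hp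
      simp only [mem_product, mem_Iic, Fin.le_def] at hp
      refine ih (p.1.val + p.2.val) ?_ p.1 p.2 rfl
      have : p.1.val ≠ a.val ∨ p.2.val ≠ b.val := by
        by_contra hc
        push Not at hc
        exact hne (Prod.ext (Fin.ext hc.1) (Fin.ext hc.2))
      omega

include hα hβ in
theorem card_pairOrbits_parabolic [Fintype F] :
    Nat.card (PairOrbits (Cfsg.parabolicGL n F α) (Cfsg.parabolicGL n F β)) = Nat.card (Margins α β) := by
  classical
  refine card_eq_of_fibres (fun σ => orbitOf _ _ (permGL F σ)) (interMat hα hβ) (fun o => ?_)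
    (interMat_surjective hα hβ) fun σ τ => ⟨fun h => ?_, fun h => ?_⟩
  · obtain ⟨g, rfl⟩ := orbitOf_surjective _ _ o
    obtain ⟨b, c, σ, hb, hc, h⟩ := bruhat g
    refine ⟨σ, (orbitOf_eq_iff _ _).2 ⟨c⁻¹, inv_mem (upper_mem_parabolic hα hc), ?_⟩⟩
    have hg : g = c * permGL F σ * b⁻¹ := by rw [← h, mul_inv_cancel_right]
    rw [hg]
    have hbm := inv_mem (upper_mem_parabolic hβ hb)
    simpa [mul_assoc] using hbm
  · refine Subtype.ext (eq_of_prefix fun a b => ?_)
    have hsum : ∀ ρ, ∑ p ∈ Iic a ×ˢ Iic b, (interMat hα hβ ρ).1 p.1 p.2 =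
        (univ.filter fun x => blk hα x ≤ a ∧ blk hβ (ρ.symm x) ≤ b).card := fun ρ => by
      rw [card_eq_sum_card_fiberwise (f := fun x => (blk hα x, blk hβ (ρ.symm x))) (t := Iic a ×ˢ Iic b)
        fun x hx => by simpa using hx]
      refine sum_congr rfl fun p hp => ?_
      rw [interMat_apply, filter_filter]
      congr 1
      ext x
      simp only [mem_filter, mem_univ, true_and, mem_product, mem_Iic] at hp ⊢
      constructor
      · intro hx
        have h1 := congrArg Prod.fst hx
        have h2 := congrArg Prod.snd hx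
        exact ⟨⟨h1.le.trans hp.1, h2.le.trans hp.2⟩, hx⟩
      · exact fun hx => hx.2
    rw [hsum, hsum]
    exact le_antisymm (prefix_le hα hβ h.symm a b) (prefix_le hα hβ h a b)
  · obtain ⟨k, hk, hk'⟩ := (interMat_eq_iff hα hβ σ τ).2 h
    refine (orbitOf_eq_iff _ _).2 ⟨permGL F k, permGL_mem_parabolic hα hk, ?_⟩
    rw [← map_inv, ← map_mul, ← map_mul]
    exact permGL_mem_parabolic hβ hk'

include hα hβ in
theorem inner_parabolic [Fintype F] [DecidableEq F] :
    Cfsg.classInner (Cfsg.fixedPointCharacter (Cfsg.parabolicGL n F α))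
      (Cfsg.fixedPointCharacter (Cfsg.parabolicGL n F β)) = (Nat.card (Margins α β) : ℂ) := by
  rw [inner_fixedPointCharacter, card_pairOrbits_parabolic hα hβ]

end CfsgLib.KnownB.Flags
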