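import Mathlib
import Cfsg.Prelude.Def_LinearParabolics

/-!
The blocks of a composition, and the orders of the standard parabolic subgroups of `GL_n(q)`.
-/

set_option autoImplicit false

namespace CfsgLib.KnownB.Flags

open Finset Matrix

universe u

variable {n : ℕ} {μ : Fin n → ℕ}

theorem compLabel_lt_iff (i j : Fin n) :
    Cfsg.compLabel μ i < j.val ↔ i.val < ∑ k ∈ univ.filter (· < j), μ k := by
  constructor
  · intro h
    by_contra hle
    push Not at hle
    have hsub : univ.filter (· < j) ⊆
        univ.filter fun k : Fin n => (∑ l ∈ univ.filter (· ≤ k), μ l) ≤ i.val := fun k hk => by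
      simp only [mem_filter, mem_univ, true_and] at hk ⊢
      refine le_trans (sum_le_sum_of_subset fun l hl => ?_) hle
      simp only [mem_filter, mem_univ, true_and] at hl ⊢
      exact lt_of_le_of_lt hl hk
    have h2 := card_le_card hsub
    rw [show univ.filter (· < j) = Iio j by ext; simp, Fin.card_Iio] at h2
    exact absurd h (not_lt.2 h2)
  · intro h
    have hj : j.val ≠ 0 := by
      intro h0
      rw [show univ.filter (· < j) = (∅ : Finset (Fin n)) from
        eq_empty_of_forall_notMem fun k hk => by simp [Fin.lt_def, h0] at hk] at h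
      simp at h
    let j' : Fin n := ⟨j.val - 1, by omega⟩
    have hsub : (univ.filter fun k : Fin n => (∑ l ∈ univ.filter (· ≤ k), μ l) ≤ i.val) ⊆ Iio j' := fun k hk => by
      simp only [mem_filter, mem_univ, true_and, mem_Iio] at hk ⊢
      by_contra hlt
      push Not at hlt
      refine absurd (lt_of_lt_of_le h (le_trans (sum_le_sum_of_subset fun l hl => ?_) hk)) (lt_irrefl _)
      simp only [mem_filter, mem_univ, true_and, Fin.lt_def, Fin.le_def, j'] at hl hlt ⊢
      omega
    have h2 := card_le_card hsub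
    rw [Fin.card_Iio] at h2
    exact lt_of_le_of_lt h2 (by simp only [j']; omega)

theorem compLabel_lt (hμ : ∑ i, μ i = n) (i : Fin n) : Cfsg.compLabel μ i < n := by
  have hn := i.isLt
  let j : Fin n := ⟨n - 1, by omega⟩
  have hsub : (univ.filter fun k : Fin n => (∑ l ∈ univ.filter (· ≤ k), μ l) ≤ i.val) ⊆ univ.erase j := fun k hk => by
    simp only [mem_filter, mem_univ, true_and, mem_erase, and_true] at hk ⊢
    rintro rfl
    rw [show univ.filter (· ≤ j) = univ from eq_univ_of_forall fun l => by simp [Fin.le_def, j]; omega, hμ] at hk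
    omega
  have h := card_le_card hsub
  rw [card_erase_of_mem (mem_univ _), card_univ, Fintype.card_fin] at h
  exact lt_of_le_of_lt h (by omega)

/-- The block of a position. -/
def blk (hμ : ∑ i, μ i = n) (i : Fin n) : Fin n := ⟨Cfsg.compLabel μ i, compLabel_lt hμ i⟩

theorem blk_mono (hμ : ∑ i, μ i = n) : Monotone (blk hμ) := fun a b hab => by
  show Cfsg.compLabel μ a ≤ Cfsg.compLabel μ b
  refine card_le_card fun k hk => ?_
  simp only [mem_filter, mem_univ, true_and] at hk ⊢
  exact le_trans hk hab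

theorem card_blk_lt (hμ : ∑ i, μ i = n) (j : Fin n) :
    (univ.filter fun i => blk hμ i < j).card = ∑ k ∈ univ.filter (· < j), μ k := by
  set P := ∑ k ∈ univ.filter (· < j), μ k
  have hP : P ≤ n := (sum_le_sum_of_subset (subset_univ _)).trans hμ.le
  rw [← Fintype.card_subtype, Fintype.card_congr (Equiv.subtypeEquivRight (p := fun i => blk hμ i < j) fun i => compLabel_lt_iff (μ := μ) i j)]
  rw [Fintype.card_congr (β := Fin P) ⟨fun i => ⟨i.1.val, i.2⟩, fun k => ⟨⟨k.val, lt_of_lt_of_le k.2 hP⟩, k.2⟩,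
    fun i => rfl, fun k => rfl⟩, Fintype.card_fin]

theorem card_blk_eq (hμ : ∑ i, μ i = n) (j : Fin n) : (univ.filter fun i => blk hμ i = j).card = μ j := by
  have hsum : ∀ t : Fin n, ∑ k ∈ univ.filter (· < t), (univ.filter fun i => blk hμ i = k).card =
      ∑ k ∈ univ.filter (· < t), μ k := fun t => by
    rw [← card_blk_lt hμ t, card_eq_sum_card_fiberwise (f := blk hμ) (t := univ.filter (· < t)) fun i hi => by
      simpa using hi]
    refine sum_congr rfl fun k hk => ?_
    congr 1
    ext i
    simp only [mem_filter, mem_univ, true_and] at hk ⊢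
    exact ⟨fun h => ⟨h ▸ hk, h⟩, fun h => h.2⟩
  by_cases hj : j.val + 1 < n
  · have hins : univ.filter (· < (⟨j.val + 1, hj⟩ : Fin n)) = insert j (univ.filter (· < j)) := by
      ext k
      simp only [mem_filter, mem_univ, true_and, mem_insert, Fin.lt_def, Fin.ext_iff]
      omega
    have h := hsum ⟨j.val + 1, hj⟩
    rw [hins, sum_insert (by simp), sum_insert (by simp), hsum j] at h
    exact Nat.add_right_cancel h
  · have huniv : univ = insert j (univ.filter (· < j)) := by
      ext k
      simp only [mem_filter, mem_univ, true_and, mem_insert, Fin.lt_def, Fin.ext_iff, true_iff]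
      omega
    have h1 : ∑ k, (univ.filter fun i => blk hμ i = k).card = n := by
      rw [← card_eq_sum_card_fiberwise (f := blk hμ) (s := univ) (t := univ) fun i _ => mem_univ _, card_univ,
        Fintype.card_fin]
    have h : ∑ k, (univ.filter fun i => blk hμ i = k).card = ∑ k, μ k := h1.trans hμ.symm
    have key : ∀ f : Fin n → ℕ, ∑ k, f k = f j + ∑ k ∈ univ.filter (· < j), f k := fun f => by
      rw [← sum_insert (by simp), ← huniv]
    rw [key, key μ, hsum j] at h
    exact Nat.add_right_cancel h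

variable {F : Type u} [Field F]

theorem mem_parabolic_iff (hμ : ∑ i, μ i = n) {g : GL (Fin n) F} :
    g ∈ Cfsg.parabolicGL n F μ ↔ (g : Matrix (Fin n) (Fin n) F).BlockTriangular (blk hμ) := Iff.rfl

theorem mem_young_iff (hμ : ∑ i, μ i = n) {s : Equiv.Perm (Fin n)} :
    s ∈ Cfsg.youngSubgroup μ ↔ ∀ i, blk hμ (s i) = blk hμ i := forall_congr' fun _ => ⟨fun h => Fin.ext h, congrArg Fin.val⟩

/-- The parabolic subgroup as diagonal blocks and entries above them. -/
noncomputable def parabolicEquiv (hμ : ∑ i, μ i = n) :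
    ↥(Cfsg.parabolicGL n F μ) ≃
      (∀ j, GL {i // blk hμ i = j} F) × ({p : Fin n × Fin n // blk hμ p.1 < blk hμ p.2} → F) where
  toFun g :=
    (fun j => GeneralLinearGroup.mkOfDetNeZero ((g.1 : Matrix (Fin n) (Fin n) F).toSquareBlock (blk hμ) j) (by
      have hd := (GeneralLinearGroup.det g.1).ne_zero
      rw [GeneralLinearGroup.val_det_apply, ((mem_parabolic_iff hμ).1 g.2).det] at hd
      by_cases hj : j ∈ univ.image (blk hμ)
      · exact Finset.prod_ne_zero_iff.1 hd j hj
      · haveI : IsEmpty {i // blk hμ i = j} := ⟨fun i => hj (mem_image.2 ⟨i.1, mem_univ _, i.2⟩)⟩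
        rw [Matrix.det_isEmpty]
        exact one_ne_zero),
    fun p => (g.1 : Matrix (Fin n) (Fin n) F) p.1.1 p.1.2)
  invFun x :=
    let M : Matrix (Fin n) (Fin n) F := Matrix.of fun i k =>
      if h : blk hμ i = blk hμ k then ((x.1 (blk hμ k)) : Matrix {a // blk hμ a = blk hμ k} {a // blk hμ a = blk hμ k} F) ⟨i, h⟩ ⟨k, rfl⟩
      else if h' : blk hμ i < blk hμ k then x.2 ⟨(i, k), h'⟩ else 0
    have hM : M.BlockTriangular (blk hμ) := fun i k hik => by
      simp [M, ne_of_gt hik, not_lt_of_gt hik]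
    have hdet : M.det ≠ 0 := by
      rw [hM.det]
      refine Finset.prod_ne_zero_iff.2 fun j _ => ?_
      rw [show M.toSquareBlock (blk hμ) j = ((x.1 j) : Matrix _ _ F) from by
        ext ⟨i, hi⟩ ⟨k, hk⟩
        subst hk
        simp [M, toSquareBlock_def, hi]]
      exact (GeneralLinearGroup.det (x.1 j)).ne_zero
    ⟨GeneralLinearGroup.mkOfDetNeZero M hdet, hM⟩
  left_inv g := by
    refine Subtype.ext (Units.ext (Matrix.ext fun i k => ?_))
    show (if h : blk hμ i = blk hμ k then (g.1 : Matrix (Fin n) (Fin n) F) i k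
      else if h' : blk hμ i < blk hμ k then (g.1 : Matrix (Fin n) (Fin n) F) i k else 0) = _
    split_ifs with h h'
    · rfl
    · rfl
    · exact ((mem_parabolic_iff hμ).1 g.2 (lt_of_le_of_ne (not_lt.1 h') (Ne.symm h))).symm
  right_inv x := by
    refine Prod.ext (funext fun j => Units.ext (Matrix.ext fun ⟨i, hi⟩ ⟨k, hk⟩ => ?_)) (funext fun p => ?_)
    · subst hk
      show (if h : blk hμ i = blk hμ k then _ else _) = _
      rw [dif_pos hi]
    · show (if h : blk hμ p.1.1 = blk hμ p.1.2 then _ else _) = _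
      rw [dif_neg (ne_of_lt p.2), dif_pos p.2]

/-- `[m]_q! = ∏_{j<m} (1 + q + ⋯ + q^j)`. -/
def qfact (q m : ℕ) : ℕ := ∏ j ∈ range m, ∑ l ∈ range (j + 1), q ^ l

theorem qfact_pos (q m : ℕ) : 0 < qfact q m :=
  prod_pos fun j _ => (sum_pos' (fun _ _ => Nat.zero_le _) ⟨0, by simp, by simp⟩)

theorem card_GL_eq [Fintype F] (m : ℕ) :
    Nat.card (GL (Fin m) F) =
      Fintype.card F ^ (m.choose 2) * (Fintype.card F - 1) ^ m * qfact (Fintype.card F) m := by
  set q := Fintype.card F
  have hq : 1 ≤ q := Fintype.card_pos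
  rw [Matrix.card_GL_field, Fin.prod_univ_eq_prod_range (fun i => q ^ m - q ^ i) m]
  have hterm : ∀ i ∈ range m, q ^ m - q ^ i = q ^ i * ((q - 1) * ∑ l ∈ range (m - i), q ^ l) := fun i hi => by
    rw [mul_comm (q - 1), geom_sum_mul_of_one_le hq, Nat.mul_sub_one, ← pow_add,
      Nat.add_sub_cancel' (mem_range.1 hi).le]
  rw [prod_congr rfl hterm, prod_mul_distrib, prod_mul_distrib, prod_pow_eq_pow_sum, prod_const, card_range,
    Finset.sum_range_id, ← Nat.choose_two_right, mul_assoc]
  congr 2
  rw [qfact, ← prod_range_reflect (fun j => ∑ l ∈ range (j + 1), q ^ l) m]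
  exact prod_congr rfl fun i hi => by rw [show m - 1 - i + 1 = m - i by have := mem_range.1 hi; omega]

theorem choose_two_eq (hμ : ∑ i, μ i = n) :
    ∑ j, (μ j).choose 2 + Fintype.card {p : Fin n × Fin n // blk hμ p.1 < blk hμ p.2} = n.choose 2 := by
  classical
  set L := Fintype.card {p : Fin n × Fin n // blk hμ p.1 < blk hμ p.2}
  have hG : Fintype.card {p : Fin n × Fin n // blk hμ p.2 < blk hμ p.1} = L :=
    Fintype.card_congr ((Equiv.prodComm _ _).subtypeEquiv fun p => Iff.rfl)
  have hE : (univ.filter fun p : Fin n × Fin n => blk hμ p.1 = blk hμ p.2).card = ∑ j, μ j * μ j := by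
    rw [card_eq_sum_card_fiberwise (f := fun p : Fin n × Fin n => blk hμ p.1) (t := univ) fun p _ => mem_univ _]
    refine sum_congr rfl fun j _ => ?_
    rw [← card_blk_eq hμ j, ← card_product]
    congr 1
    ext ⟨a, b⟩
    simp only [mem_filter, mem_univ, true_and, mem_product]
    constructor
    · rintro ⟨h, h'⟩; exact ⟨h', h ▸ h'⟩
    · rintro ⟨h, h'⟩; exact ⟨h.trans h'.symm, h⟩
  have hsplit : Fintype.card (Fin n × Fin n) = (∑ j, μ j * μ j) + (L + L) := by
    rw [← hE, ← card_univ, ← card_filter_add_card_filter_not (s := univ)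
      (fun p : Fin n × Fin n => blk hμ p.1 = blk hμ p.2)]
    congr 1
    rw [← card_filter_add_card_filter_not (fun p : Fin n × Fin n => blk hμ p.1 < blk hμ p.2), filter_filter,
      filter_filter]
    rw [show L + L = L + Fintype.card {p : Fin n × Fin n // blk hμ p.2 < blk hμ p.1} by rw [hG]]
    simp only [L, Fintype.card_subtype]
    congr 2
    · ext p; simp only [mem_filter, mem_univ, true_and]; exact ⟨fun h => h.2, fun h => ⟨ne_of_lt h, h⟩⟩
    · ext p
      simp only [mem_filter, mem_univ, true_and, not_lt]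
      exact ⟨fun h => lt_of_le_of_ne h.2 (Ne.symm h.1), fun h => ⟨ne_of_gt h, h.le⟩⟩
  rw [Fintype.card_prod, Fintype.card_fin] at hsplit
  have h2 : ∀ k : ℕ, 2 * k.choose 2 + k = k * k := fun k => by
    induction k with
    | zero => rfl
    | succ k ih =>
      rw [Nat.choose_succ_succ, Nat.choose_one_right]
      linarith
  have h3 : 2 * ∑ j, (μ j).choose 2 + n = ∑ j, μ j * μ j := by
    conv_lhs => arg 2; rw [← hμ]
    rw [mul_sum, ← sum_add_distrib]
    exact sum_congr rfl fun j _ => h2 _
  have := h2 n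
  omega

theorem card_parabolic [Fintype F] (hμ : ∑ i, μ i = n) :
    Nat.card ↥(Cfsg.parabolicGL n F μ) =
      Fintype.card F ^ (n.choose 2) * (Fintype.card F - 1) ^ n * ∏ j, qfact (Fintype.card F) (μ j) := by
  classical
  have hblock : ∀ j, Nat.card (GL {i // blk hμ i = j} F) =
      Fintype.card F ^ ((μ j).choose 2) * (Fintype.card F - 1) ^ (μ j) * qfact (Fintype.card F) (μ j) := fun j => by
    have e : {i // blk hμ i = j} ≃ Fin (μ j) :=
      Fintype.equivFinOfCardEq (by rw [Fintype.card_subtype, card_blk_eq])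
    rw [← card_GL_eq (F := F) (μ j),
      Nat.card_congr (Units.mapEquiv (Matrix.reindexAlgEquiv F F e).toMulEquiv).toEquiv]
  rw [Nat.card_congr (parabolicEquiv hμ), Nat.card_prod, Nat.card_pi, Nat.card_fun, prod_congr rfl fun j _ => hblock j,
    prod_mul_distrib, prod_mul_distrib, prod_pow_eq_pow_sum, prod_pow_eq_pow_sum, hμ, Nat.card_eq_fintype_card (α := F),
    Nat.card_eq_fintype_card, mul_right_comm _ _ (Fintype.card F ^ _), mul_right_comm _ _ (Fintype.card F ^ _),
    ← pow_add, choose_two_eq]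

theorem card_quotient_parabolic [Fintype F] (hμ : ∑ i, μ i = n) :
    Nat.card (GL (Fin n) F ⧸ Cfsg.parabolicGL n F μ) * ∏ j, qfact (Fintype.card F) (μ j) =
      qfact (Fintype.card F) n := by
  have hq : 1 < Fintype.card F := Fintype.one_lt_card
  have h := Subgroup.card_eq_card_quotient_mul_card_subgroup (Cfsg.parabolicGL n F μ)
  rw [card_GL_eq, card_parabolic hμ] at h
  refine Nat.eq_of_mul_eq_mul_left
    (n := Fintype.card F ^ (n.choose 2) * (Fintype.card F - 1) ^ n)
    (Nat.mul_pos (pow_pos (by omega) _) (pow_pos (by omega) _)) ?_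
  rw [h]
  ring

end CfsgLib.KnownB.Flags
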