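import Mathlib

/-!
The Cauchy determinant, and the orthogonality of alternating sums of margin counts that follows from it.
-/

set_option autoImplicit false

namespace CfsgLib.KnownB.Flags

open Finset Matrix

universe u

variable {n : ℕ}

section Det

open Polynomial

variable {R : Type u} [CommRing R]

/-- `∏_{k ≠ j} (1 - y_k X)`. -/
noncomputable def cpoly (y : Fin n → R) (j : Fin n) : R[X] := ∏ k ∈ univ.erase j, (1 - C (y k) * X)

theorem cpoly_natDegree (y : Fin n → R) (j : Fin n) : (cpoly y j).natDegree < n := by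
  have hn := j.isLt
  refine lt_of_le_of_lt (natDegree_prod_le _ _) (lt_of_le_of_lt (sum_le_card_nsmul _ _ 1 fun k _ => ?_) ?_)
  · refine (natDegree_sub_le _ _).trans (max_le (by simp) ?_)
    exact (natDegree_C_mul_le _ _).trans natDegree_X_le
  · rw [card_erase_of_mem (mem_univ _), card_univ, Fintype.card_fin, smul_eq_mul, mul_one]
    omega

/-- The coefficients of `cpoly`. -/
noncomputable def coeffMat (y : Fin n → R) : Matrix (Fin n) (Fin n) R := Matrix.of fun l j => (cpoly y j).coeff l

theorem cauchy_factor (x y : Fin n → R) :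
    (Matrix.of fun i j => ∏ k ∈ univ.erase j, (1 - x i * y k)) = vandermonde x * coeffMat y := by
  ext i j
  rw [Matrix.mul_apply]
  have h := eval_eq_sum_range' (cpoly_natDegree y j) (x i)
  rw [cpoly, eval_prod] at h
  simp only [eval_sub, eval_one, eval_mul, eval_C, eval_X] at h
  rw [Matrix.of_apply]
  simp only [mul_comm (x i)]
  rw [h, ← Fin.sum_univ_eq_sum_range]
  exact sum_congr rfl fun l _ => by rw [vandermonde_apply, coeffMat, Matrix.of_apply, mul_comm]; rfl

theorem coeffMat_map {S : Type*} [CommRing S] (φ : R →+* S) (y : Fin n → R) :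
    (coeffMat y).map φ = coeffMat (φ ∘ y) := by
  ext l j
  have h : (cpoly y j).map φ = cpoly (φ ∘ y) j := by simp [cpoly, Polynomial.map_prod]
  simp only [Matrix.map_apply, coeffMat, Matrix.of_apply, ← h, Polynomial.coeff_map]

theorem det_coeffMat_field {K : Type*} [Field K] (y : Fin n → K) (h0 : ∀ i, y i ≠ 0) (hinj : Function.Injective y) :
    (coeffMat y).det = (vandermonde y).det := by
  have h := congrArg Matrix.det (cauchy_factor (fun i => (y i)⁻¹) y)
  rw [Matrix.det_mul] at h
  have hdiag : (Matrix.of fun i j => ∏ k ∈ univ.erase j, (1 - (y i)⁻¹ * y k)) =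
      Matrix.diagonal fun i => ∏ k ∈ univ.erase i, (1 - (y i)⁻¹ * y k) := by
    ext i j
    rcases eq_or_ne i j with rfl | hij
    · simp
    · rw [Matrix.diagonal_apply_ne _ hij, Matrix.of_apply]
      exact prod_eq_zero (mem_erase.2 ⟨hij, mem_univ _⟩) (by rw [inv_mul_cancel₀ (h0 i), sub_self])
  rw [hdiag, Matrix.det_diagonal] at h
  have hne : (vandermonde fun i => (y i)⁻¹).det ≠ 0 :=
    det_vandermonde_ne_zero_iff.2 fun a b hab => hinj (inv_injective hab)
  refine mul_left_cancel₀ hne ?_
  rw [← h, det_vandermonde, det_vandermonde]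
  have hsplit : ∀ i : Fin n, univ.erase i = Ioi i ∪ Iio i := fun i => by
    ext k
    simp only [mem_erase, mem_univ, and_true, mem_union, mem_Ioi, mem_Iio]
    exact ne_comm.trans lt_or_lt_iff_ne.symm
  simp only [hsplit]
  rw [prod_congr rfl fun i _ => prod_union (disjoint_left.2 fun k hk hk' => lt_asymm (mem_Ioi.1 hk) (mem_Iio.1 hk')),
    prod_mul_distrib, prod_comm' (s := univ) (t := fun i => Iio i) (s' := fun i => Ioi i) (t' := univ)
      (fun a b => by simp), ← prod_mul_distrib, ← prod_mul_distrib]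
  refine prod_congr rfl fun i _ => ?_
  rw [← prod_mul_distrib, ← prod_mul_distrib]
  refine prod_congr rfl fun k _ => ?_
  have := h0 i
  have := h0 k
  field_simp

theorem det_coeffMat (y : Fin n → R) : (coeffMat y).det = (vandermonde y).det := by
  have hP : (coeffMat (MvPolynomial.X : Fin n → MvPolynomial (Fin n) ℤ)).det =
      (vandermonde (MvPolynomial.X : Fin n → MvPolynomial (Fin n) ℤ)).det := by
    refine IsFractionRing.injective (MvPolynomial (Fin n) ℤ) (FractionRing (MvPolynomial (Fin n) ℤ)) ?_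
    have hinj := IsFractionRing.injective (MvPolynomial (Fin n) ℤ) (FractionRing (MvPolynomial (Fin n) ℤ))
    rw [RingHom.map_det, RingHom.map_det, RingHom.mapMatrix_apply, RingHom.mapMatrix_apply, coeffMat_map,
      det_coeffMat_field (algebraMap (MvPolynomial (Fin n) ℤ) (FractionRing (MvPolynomial (Fin n) ℤ)) ∘ MvPolynomial.X)
        (fun i h => MvPolynomial.X_ne_zero i (hinj (h.trans (map_zero _).symm)))
        (hinj.comp MvPolynomial.X_injective)]
    congr 1
    ext i j
    simp [vandermonde_apply]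
  let φ : MvPolynomial (Fin n) ℤ →+* R := MvPolynomial.eval₂Hom (Int.castRingHom R) y
  have hy : φ ∘ (MvPolynomial.X : Fin n → _) = y := funext fun i => MvPolynomial.eval₂_X _ _ i
  have := congrArg φ hP
  rw [RingHom.map_det, RingHom.map_det, RingHom.mapMatrix_apply, RingHom.mapMatrix_apply, coeffMat_map, hy] at this
  rw [this]
  congr 1
  ext i j
  simp only [Matrix.map_apply, vandermonde_apply, map_pow]
  rw [← congrFun hy i]
  rfl

/-- Cauchy's determinant, cleared of denominators. -/
theorem det_cauchy (x y : Fin n → R) :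
    (Matrix.of fun i j => ∏ k ∈ univ.erase j, (1 - x i * y k)).det = (vandermonde x).det * (vandermonde y).det := by
  rw [cauchy_factor, Matrix.det_mul, det_coeffMat]

/-- Cauchy's determinant. -/
theorem det_cauchy_inv (x y : Fin n → R) (G : Fin n → Fin n → R) (hG : ∀ i j, (1 - x i * y j) * G i j = 1) :
    (Matrix.of G).det = (vandermonde x).det * (vandermonde y).det * ∏ i, ∏ j, G i j := by
  have h : Matrix.of G = Matrix.of fun i j => (∏ k, G i k) * ∏ k ∈ univ.erase j, (1 - x i * y k) := by
    ext i j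
    rw [Matrix.of_apply, Matrix.of_apply, ← mul_prod_erase univ (G i) (mem_univ j), mul_assoc, ← prod_mul_distrib,
      prod_eq_one (fun k _ => by rw [mul_comm]; exact hG i k), mul_one]
  rw [h]
  refine (det_mul_column (fun i => ∏ k, G i k) (Matrix.of fun i j => ∏ k ∈ univ.erase j, (1 - x i * y k))).trans ?_
  rw [det_cauchy]
  ring

end Det

/-- The exponent of `x_i y_j`. -/
noncomputable def pairExp (i j : Fin n) : (Fin n ⊕ Fin n) →₀ ℕ :=
  Finsupp.single (Sum.inl i) 1 + Finsupp.single (Sum.inr j) 1

theorem pairExp_ne_zero (i j : Fin n) : pairExp i j ≠ 0 := fun h => by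
  simpa [pairExp] using DFunLike.congr_fun h (Sum.inl i)

open Classical in
/-- The geometric series in a monomial. -/
noncomputable def geomSeries (m : (Fin n ⊕ Fin n) →₀ ℕ) : MvPowerSeries (Fin n ⊕ Fin n) ℤ :=
  fun d => if ∃ k : ℕ, d = k • m then 1 else 0

open Classical in
theorem coeff_geomSeries (m d : (Fin n ⊕ Fin n) →₀ ℕ) :
    MvPowerSeries.coeff d (geomSeries m) = if ∃ k : ℕ, d = k • m then 1 else 0 := rfl

theorem one_sub_mul_geomSeries {m : (Fin n ⊕ Fin n) →₀ ℕ} (hm : m ≠ 0) :
    (1 - MvPowerSeries.monomial m (1 : ℤ)) * geomSeries m = 1 := by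
  classical
  ext d
  rw [sub_mul, one_mul, map_sub, MvPowerSeries.coeff_monomial_mul, one_mul, coeff_geomSeries, MvPowerSeries.coeff_one]
  by_cases hd : d = 0
  · subst hd
    rw [if_pos ⟨0, by simp⟩, if_neg (fun h => hm (nonpos_iff_eq_zero.1 h)), if_pos rfl, sub_zero]
  · rw [if_neg hd]
    by_cases hmd : m ≤ d
    · rw [if_pos hmd, coeff_geomSeries]
      have : (∃ k : ℕ, d = k • m) ↔ ∃ k : ℕ, d - m = k • m := by
        constructor
        · rintro ⟨k, rfl⟩
          obtain ⟨l, rfl⟩ : ∃ l, k = l + 1 := ⟨k - 1, by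
            rcases Nat.eq_zero_or_pos k with rfl | hk
            · simp at hd
            · omega⟩
          exact ⟨l, by rw [succ_nsmul, add_tsub_cancel_right]⟩
        · rintro ⟨k, hk⟩
          exact ⟨k + 1, by rw [succ_nsmul, ← hk, tsub_add_cancel_of_le hmd]⟩
      simp [this]
    · rw [if_neg hmd, sub_zero, if_neg]
      rintro ⟨k, rfl⟩
      rcases Nat.eq_zero_or_pos k with rfl | hk
      · simp at hd
      · exact hmd (le_smul_of_one_le_left zero_le hk)

theorem coeff_prod_geomSeries {ι : Type} [Fintype ι] [DecidableEq ι] (m : ι → (Fin n ⊕ Fin n) →₀ ℕ)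
    (hm : ∀ p, m p ≠ 0) (d : (Fin n ⊕ Fin n) →₀ ℕ) :
    MvPowerSeries.coeff d (∏ p, geomSeries (m p)) = (Nat.card {k : ι → ℕ // ∑ p, k p • m p = d} : ℤ) := by
  classical
  rw [MvPowerSeries.coeff_prod]
  simp only [coeff_geomSeries]
  simp only [prod_boole, mem_univ, forall_true_left]
  rw [← sum_filter]
  simp only [sum_const, nsmul_one]
  congr 1
  set S := {l ∈ finsuppAntidiag (univ : Finset ι) d | ∀ p, ∃ k : ℕ, l p = k • m p}
  rw [← Nat.card_eq_finsetCard S]
  refine (Nat.card_congr (Equiv.ofBijective (β := S) (fun k : {k : ι → ℕ // ∑ p, k p • m p = d} => ⟨Finsupp.equivFunOnFinite.symm fun p => k.1 p • m p,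
    mem_filter.2 ⟨(mem_finsuppAntidiag (s := (univ : Finset ι))).2 ⟨by simpa using k.2, Finset.subset_univ _⟩, fun p => ⟨k.1 p, by simp⟩⟩⟩) ⟨?_, ?_⟩)).symm
  · intro k k' h
    refine Subtype.ext (funext fun p => ?_)
    have h' := DFunLike.congr_fun (congrArg Subtype.val h) p
    simp only [Finsupp.coe_equivFunOnFinite_symm] at h'
    obtain ⟨x, hx⟩ := DFunLike.ne_iff.1 (hm p)
    have h'' := DFunLike.congr_fun h' x
    simp only [Finsupp.coe_zero, Pi.zero_apply] at hx
    simpa [hx] using h''
  · rintro ⟨l, hl⟩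
    rw [mem_filter, mem_finsuppAntidiag] at hl
    choose k hk using hl.2
    refine ⟨⟨k, ?_⟩, Subtype.ext (Finsupp.ext fun p => by simp [hk p])⟩
    rw [← hl.1.1]
    exact sum_congr rfl fun p _ => (hk p).symm

/-- Exponent vector from the two halves. -/
noncomputable def expo (a b : Fin n → ℕ) : (Fin n ⊕ Fin n) →₀ ℕ := Finsupp.equivFunOnFinite.symm (Sum.elim a b)

@[simp] theorem expo_inl (a b : Fin n → ℕ) (i : Fin n) : expo a b (Sum.inl i) = a i := rfl

@[simp] theorem expo_inr (a b : Fin n → ℕ) (i : Fin n) : expo a b (Sum.inr i) = b i := rfl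

theorem sum_smul_pairExp_inl {ι : Type} [Fintype ι] (f g : ι → Fin n) (k : ι → ℕ) (a : Fin n) :
    (∑ p, k p • pairExp (f p) (g p)) (Sum.inl a) = ∑ p, if f p = a then k p else 0 := by
  rw [Finsupp.finset_sum_apply]
  refine sum_congr rfl fun p _ => ?_
  by_cases h : f p = a <;> simp [pairExp, h]

theorem sum_smul_pairExp_inr {ι : Type} [Fintype ι] (f g : ι → Fin n) (k : ι → ℕ) (a : Fin n) :
    (∑ p, k p • pairExp (f p) (g p)) (Sum.inr a) = ∑ p, if g p = a then k p else 0 := by
  rw [Finsupp.finset_sum_apply]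
  refine sum_congr rfl fun p _ => ?_
  by_cases h : g p = a <;> simp [pairExp, h]

theorem expo_eq_iff (d : (Fin n ⊕ Fin n) →₀ ℕ) (a b : Fin n → ℕ) :
    d = expo a b ↔ (∀ i, d (Sum.inl i) = a i) ∧ ∀ i, d (Sum.inr i) = b i :=
  ⟨fun h => h ▸ ⟨fun _ => rfl, fun _ => rfl⟩,
    fun h => Finsupp.ext fun | .inl i => h.1 i | .inr i => h.2 i⟩

/-- Alternating sums of margin counts are orthogonal. -/
theorem alternating_margins (l l' : Fin n → ℕ) (hl : StrictMono l) (hl' : StrictMono l') :
    (∑ κ : Equiv.Perm (Fin n), ∑ κ' : Equiv.Perm (Fin n),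
      if (∀ i, (κ i).val ≤ l i) ∧ ∀ i, (κ' i).val ≤ l' i then
        (Equiv.Perm.sign κ : ℤ) * (Equiv.Perm.sign κ' : ℤ) *
          (Nat.card {N : Fin n → Fin n → ℕ //
            (∀ i, ∑ j, N i j = l i - (κ i).val) ∧ ∀ j, ∑ i, N i j = l' j - (κ' j).val} : ℤ)
      else 0) = if l = l' then 1 else 0 := by
  classical
  set x : Fin n → MvPowerSeries (Fin n ⊕ Fin n) ℤ := fun i => MvPowerSeries.monomial (Finsupp.single (Sum.inl i) 1) 1
  set y : Fin n → MvPowerSeries (Fin n ⊕ Fin n) ℤ := fun i => MvPowerSeries.monomial (Finsupp.single (Sum.inr i) 1) 1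
  set G : Fin n → Fin n → MvPowerSeries (Fin n ⊕ Fin n) ℤ := fun i j => geomSeries (pairExp i j)
  have key := det_cauchy_inv x y G fun i j => by
    rw [show x i * y j = MvPowerSeries.monomial (pairExp i j) 1 by
      simp only [x, y, MvPowerSeries.monomial_mul_monomial, mul_one, pairExp]]
    exact one_sub_mul_geomSeries (pairExp_ne_zero i j)
  have hL := congrArg (MvPowerSeries.coeff (expo l l')) key
  -- left-hand side
  have h1 : MvPowerSeries.coeff (expo l l') (Matrix.of G).det = if l = l' then 1 else 0 := by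
    rw [det_apply', map_sum]
    have hterm : ∀ σ : Equiv.Perm (Fin n), MvPowerSeries.coeff (expo l l')
        (((Equiv.Perm.sign σ : ℤ) : MvPowerSeries (Fin n ⊕ Fin n) ℤ) * ∏ i, Matrix.of G (σ i) i) =
        if σ = 1 ∧ l = l' then 1 else 0 := fun σ => by
      rw [← map_intCast (MvPowerSeries.C (σ := Fin n ⊕ Fin n) (R := ℤ)), MvPowerSeries.coeff_C_mul]
      simp only [Matrix.of_apply, G]
      rw [coeff_prod_geomSeries _ fun i => pairExp_ne_zero _ _]
      have hiff : ∀ k : Fin n → ℕ, ∑ i, k i • pairExp (σ i) i = expo l l' ↔ k = l' ∧ l ∘ σ = l' := fun k => by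
        rw [expo_eq_iff]
        simp only [sum_smul_pairExp_inl (fun i => σ i) (fun i => i), sum_smul_pairExp_inr (fun i => σ i) (fun i => i)]
        constructor
        · rintro ⟨ha, hb⟩
          have hb' : k = l' := funext fun i => by simpa using hb i
          refine ⟨hb', funext fun i => ?_⟩
          have := ha (σ i)
          simp only [σ.injective.eq_iff, sum_ite_eq', mem_univ, if_true] at this
          rw [Function.comp_apply, ← this, hb']
        · rintro ⟨rfl, h⟩
          refine ⟨fun a => ?_, fun a => by simp⟩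
          rw [sum_eq_single (σ.symm a)]
          · rw [if_pos (σ.apply_symm_apply a), ← h, Function.comp_apply, σ.apply_symm_apply]
          · intro b _ hb
            rw [if_neg]
            rintro rfl
            simp at hb
          · simp
      rw [Nat.card_congr (Equiv.subtypeEquivRight hiff)]
      by_cases h : l ∘ σ = l'
      · have hσ : σ = 1 := by
          have : Set.range (l ∘ σ) = Set.range l' := by rw [h]
          rw [Set.range_comp, σ.surjective.range_eq, Set.image_univ] at this
          have e := StrictMono.range_inj hl hl' |>.1 this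
          subst e
          exact Equiv.ext fun i => hl.injective (congrFun h i)
        subst hσ
        rw [if_pos ⟨rfl, h⟩]
        simp only [Equiv.Perm.sign_one, Units.val_one, Int.cast_one, one_mul, Int.cast_ofNat]
        norm_cast
        rw [Nat.card_eq_one_iff_exists]
        exact ⟨⟨l', rfl, h⟩, fun k => Subtype.ext k.2.1⟩
      · rw [if_neg]
        · have : IsEmpty {k : Fin n → ℕ // k = l' ∧ l ∘ σ = l'} := ⟨fun k => h k.2.2⟩
          simp
        · rintro ⟨rfl, e⟩
          exact h e
    rw [sum_congr rfl fun σ _ => hterm σ, sum_ite, sum_const_zero, add_zero, sum_const, nsmul_one]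
    split_ifs with h
    · simp [h, Finset.filter_eq']
    · simp [h]
  -- right-hand side
  have hv : ∀ (z : Fin n → MvPowerSeries (Fin n ⊕ Fin n) ℤ) (f : Fin n → Fin n ⊕ Fin n),
      (∀ i, z i = MvPowerSeries.monomial (Finsupp.single (f i) 1) 1) →
      (vandermonde z).det = ∑ κ : Equiv.Perm (Fin n),
        MvPowerSeries.monomial (∑ i, Finsupp.single (f i) (κ i).val) (Equiv.Perm.sign κ : ℤ) := fun z f hz => by
    rw [← det_transpose, det_apply']
    refine sum_congr rfl fun κ _ => ?_
    simp only [Matrix.transpose_apply, vandermonde_apply, hz, MvPowerSeries.monomial_pow, one_pow,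
      Finsupp.smul_single, smul_eq_mul, mul_one]
    rw [MvPowerSeries.prod_monomial, prod_const_one, ← map_intCast (MvPowerSeries.C (σ := Fin n ⊕ Fin n) (R := ℤ)),
      ← MvPowerSeries.monomial_zero_eq_C_apply, MvPowerSeries.monomial_mul_monomial, zero_add, mul_one]
    rfl
  rw [← h1, hL, hv x Sum.inl fun _ => rfl, hv y Sum.inr fun _ => rfl, sum_mul_sum, sum_mul, map_sum]
  refine sum_congr rfl fun κ _ => ?_
  rw [sum_mul, map_sum]
  refine sum_congr rfl fun κ' _ => ?_
  rw [MvPowerSeries.monomial_mul_monomial, MvPowerSeries.coeff_monomial_mul, ← Fintype.prod_prod_type']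
  set e := ∑ i, Finsupp.single (Sum.inl i) (κ i).val + ∑ i, Finsupp.single (Sum.inr i : Fin n ⊕ Fin n) (κ' i).val with he
  have hel : ∀ i, e (Sum.inl i) = (κ i).val := fun i => by
    simp [he, Finsupp.finset_sum_apply, Finsupp.single_apply]
  have her : ∀ i, e (Sum.inr i) = (κ' i).val := fun i => by
    simp [he, Finsupp.finset_sum_apply, Finsupp.single_apply]
  have hle : e ≤ expo l l' ↔ (∀ i, (κ i).val ≤ l i) ∧ ∀ i, (κ' i).val ≤ l' i := by
    refine ⟨fun h => ⟨fun i => hel i ▸ h (Sum.inl i), fun i => her i ▸ h (Sum.inr i)⟩, fun h k => ?_⟩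
    rcases k with i | i
    · rw [hel]; exact h.1 i
    · rw [her]; exact h.2 i
  by_cases h : e ≤ expo l l'
  · rw [if_pos h, if_pos (hle.1 h)]
    congr 1
    simp only [G]
    rw [coeff_prod_geomSeries (fun p : Fin n × Fin n => pairExp p.1 p.2) fun p => pairExp_ne_zero _ _]
    congr 1
    refine Nat.card_congr ((Equiv.curry (Fin n) (Fin n) ℕ).symm.subtypeEquiv fun N => ?_)
    rw [show expo l l' - e = expo (fun i => l i - (κ i).val) (fun i => l' i - (κ' i).val) by
      ext k
      rcases k with i | i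
      · simp [hel]
      · simp [her], expo_eq_iff]
    simp only [sum_smul_pairExp_inl (fun p : Fin n × Fin n => p.1) (fun p => p.2),
      sum_smul_pairExp_inr (fun p : Fin n × Fin n => p.1) (fun p => p.2)]
    simp only [Fintype.sum_prod_type]
    refine and_congr (forall_congr' fun a => ?_) (forall_congr' fun b => ?_)
    · have : ∀ x : Fin n, (∑ j, if x = a then N x j else 0) = if x = a then ∑ j, N x j else 0 := fun x => by
        split_ifs <;> simp
      simp [this]
    · simp
  · rw [if_neg h, if_neg (fun h' => h (hle.2 h'))]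

end CfsgLib.KnownB.Flags
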