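import Cfsg.Agent.Lib.KnownB.Flags.Orbits
import Cfsg.Agent.Lib.KnownB.Flags.Cauchy
import Cfsg.Agent.Lib.Chars.Char

/-!
The characters of `GL_n(q)` attached to partitions by alternating sums of flag permutation characters.
-/

set_option autoImplicit false

namespace CfsgLib.KnownB.Flags

open Finset Matrix

universe u

variable {F : Type u} [Field F] [Fintype F] {n : ℕ}

theorem sum_shift_eq (ν : Fin n → ℕ) (hsum : ∑ i, ν i = n) (κ : Equiv.Perm (Fin n))
    (h : ∀ i, (κ i).val ≤ ν i + i.val) : ∑ i, (ν i + i.val - (κ i).val) = n := by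
  have h1 : ∑ i, (ν i + i.val - (κ i).val) + ∑ i, (κ i).val = ∑ i, (ν i + i.val) := by
    rw [← sum_add_distrib]
    exact sum_congr rfl fun i _ => Nat.sub_add_cancel (h i)
  rw [Equiv.sum_comp κ (fun i => i.val), sum_add_distrib, hsum] at h1
  omega

theorem strictMono_shift {ν : Fin n → ℕ} (hmono : Monotone ν) : StrictMono fun i => ν i + i.val := fun a b hab => by
  have := hmono hab.le
  rw [Fin.lt_def] at hab
  dsimp only
  omega

theorem inner_unipotent [Fintype (GL (Fin n) F)] {ν ν' : Fin n → ℕ} (hmono : Monotone ν) (hsum : ∑ i, ν i = n)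
    (hmono' : Monotone ν') (hsum' : ∑ i, ν' i = n) :
    Cfsg.classInner (Cfsg.unipotentCharacterGL n F ν) (Cfsg.unipotentCharacterGL n F ν') =
      if ν = ν' then 1 else 0 := by
  classical
  let P : (Fin n → ℕ) → GL (Fin n) F → ℂ := fun μ => Cfsg.fixedPointCharacter (Cfsg.parabolicGL n F μ)
  have hχ : ∀ μ : Fin n → ℕ, Cfsg.unipotentCharacterGL n F μ = ∑ κ : Equiv.Perm (Fin n),
      (if ∀ i : Fin n, (κ i).val ≤ μ i + i.val then ((Equiv.Perm.sign κ : ℤ) : ℂ) else 0) •
        P fun i => μ i + i.val - (κ i).val := fun μ => by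
    funext g
    rw [Finset.sum_apply, Cfsg.unipotentCharacterGL]
    refine sum_congr rfl fun κ _ => ?_
    split_ifs with h <;> simp [P, h]
  rw [hχ, hχ, CfsgLib.Chars.inner_sum_left]
  simp only [CfsgLib.Chars.inner_sum_right, CfsgLib.Chars.inner_smul_left, CfsgLib.Chars.inner_smul_right]
  have key := congrArg (fun z : ℤ => (z : ℂ)) (alternating_margins _ _ (strictMono_shift hmono) (strictMono_shift hmono'))
  have hiff : ((fun i : Fin n => ν i + i.val) = fun i => ν' i + i.val) ↔ ν = ν' :=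
    ⟨fun h => funext fun i => Nat.add_right_cancel (congrFun h i), fun h => by rw [h]⟩
  simp only [Int.cast_sum, Int.cast_ite, Int.cast_mul, Int.cast_natCast, Int.cast_one, Int.cast_zero, hiff] at key
  rw [← key]
  refine sum_congr rfl fun κ _ => sum_congr rfl fun κ' _ => ?_
  by_cases h : ∀ i, (κ i).val ≤ ν i + i.val
  · by_cases h' : ∀ i, (κ' i).val ≤ ν' i + i.val
    · rw [if_pos h, if_pos h', if_pos ⟨h, h'⟩, map_intCast]
      have hp := inner_parabolic (F := F) (sum_shift_eq ν hsum κ h) (sum_shift_eq ν' hsum' κ' h')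
      rw [CfsgLib.Chars.inner_congr_inst (i2 := ‹Fintype (GL (Fin n) F)›)] at hp
      simp only [P]
      rw [mul_left_comm, ← mul_assoc]
      congr 1
      convert hp using 1
      exact CfsgLib.Chars.inner_congr_inst _ _ _ _
    · simp [h']
  · simp [h]

/-- `Q(a) Q(a - 1) ⋯ Q(a - j + 1)`. -/
def qdesc (q a j : ℕ) : ℕ := ∏ l ∈ range j, ∑ i ∈ range (a - l), q ^ i

theorem qfact_eq_qdesc_mul (q : ℕ) : ∀ {a j : ℕ}, j ≤ a → qfact q a = qdesc q a j * qfact q (a - j)
  | a, 0, _ => by simp [qdesc]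
  | a, j + 1, h => by
    rw [qfact_eq_qdesc_mul q (by omega : j ≤ a), qdesc, qdesc, prod_range_succ, mul_assoc]
    congr 1
    rw [qfact, qfact, show a - j = a - (j + 1) + 1 by omega, prod_range_succ]
    ring

theorem qdesc_eq_zero (q : ℕ) {a j : ℕ} (h : a < j) : qdesc q a j = 0 :=
  prod_eq_zero (mem_range.2 h) (by simp)

theorem qdesc_mul_pow (q a j : ℕ) :
    ((qdesc q a j : ℕ) : ℂ) * (q : ℂ) ^ j.choose 2 =
      ∏ l ∈ range j, (((∑ i ∈ range a, q ^ i : ℕ) : ℂ) - ((∑ i ∈ range l, q ^ i : ℕ) : ℂ)) := by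
  by_cases hj : a < j
  · rw [qdesc_eq_zero q hj, Nat.cast_zero, zero_mul, prod_eq_zero (mem_range.2 hj) (sub_self _)]
  · rw [qdesc, Nat.cast_prod, show (q : ℂ) ^ j.choose 2 = ∏ l ∈ range j, (q : ℂ) ^ l by
      rw [prod_pow_eq_pow_sum, Finset.sum_range_id, Nat.choose_two_right], ← prod_mul_distrib]
    refine prod_congr rfl fun l hl => ?_
    have hla : l ≤ a := by have := mem_range.1 hl; omega
    push_cast
    rw [sum_mul, eq_sub_iff_add_eq, add_comm]
    conv_rhs => rw [← Nat.add_sub_cancel' hla, sum_range_add]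
    congr 1
    exact sum_congr rfl fun i _ => by rw [← pow_add, add_comm]

theorem sum_choose_two (n : ℕ) : ∑ j : Fin n, j.val.choose 2 = n * (n - 1) * (n - 2) / 6 := by
  rw [Fin.sum_univ_eq_sum_range (fun j => j.choose 2) n]
  have h : ∀ k, ∑ j ∈ range k, j.choose 2 = k.choose 3 := fun k => by
    induction k with
    | zero => rfl
    | succ k ih => rw [sum_range_succ, ih, Nat.choose_succ_succ' k 2, add_comm]
  rw [h, Nat.choose_eq_descFactorial_div_factorial]
  simp [Nat.descFactorial, Nat.factorial]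
  ring_nf

theorem degree_eq {ν : Fin n → ℕ} (hsum : ∑ i, ν i = n) :
    Cfsg.unipotentCharacterGL n F ν 1 * (Fintype.card F : ℂ) ^ (n * (n - 1) * (n - 2) / 6) *
        ∏ i : Fin n, ((qfact (Fintype.card F) (ν i + i.val) : ℕ) : ℂ) =
      ((qfact (Fintype.card F) n : ℕ) : ℂ) * ∏ i : Fin n, ∏ j ∈ Ioi i,
        (((∑ l ∈ range (ν j + j.val), Fintype.card F ^ l : ℕ) : ℂ) -
          ((∑ l ∈ range (ν i + i.val), Fintype.card F ^ l : ℕ) : ℂ)) := by
  classical
  set q := Fintype.card F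
  set a : Fin n → ℕ := fun i => ν i + i.val
  set X : Fin n → ℂ := fun i => ((∑ l ∈ range (a i), q ^ l : ℕ) : ℂ)
  rw [← det_vandermonde, det_eval_matrixOfPolynomials_eq_det_vandermonde X
    (fun j => ∏ l ∈ range j.val, (Polynomial.X - Polynomial.C (((∑ i ∈ range l, q ^ i : ℕ) : ℂ))))
    (fun j => by rw [Polynomial.natDegree_prod_of_monic _ _ fun l _ => Polynomial.monic_X_sub_C _]; simp only [Polynomial.natDegree_X_sub_C, sum_const, card_range, smul_eq_mul, mul_one])
    (fun j => Polynomial.monic_prod_of_monic _ _ fun l _ => Polynomial.monic_X_sub_C _)]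
  simp only [Polynomial.eval_prod, Polynomial.eval_sub, Polynomial.eval_X, Polynomial.eval_C]
  rw [← det_transpose, det_apply', mul_sum, Cfsg.unipotentCharacterGL, sum_mul, sum_mul]
  refine sum_congr rfl fun κ _ => ?_
  simp only [Matrix.transpose_apply, Matrix.of_apply]
  by_cases h : ∀ i : Fin n, (κ i).val ≤ ν i + i.val
  · rw [if_pos h]
    set μ : Fin n → ℕ := fun i => a i - (κ i).val
    have hfix : Cfsg.fixedPointCharacter (Cfsg.parabolicGL n F μ) 1 =
        (Nat.card (GL (Fin n) F ⧸ Cfsg.parabolicGL n F μ) : ℂ) := by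
      rw [Cfsg.fixedPointCharacter]
      congr 1
      exact Nat.card_congr (Equiv.subtypeUnivEquiv fun x => by simp)
    have hμ : ∑ i, μ i = n := sum_shift_eq ν hsum κ h
    have hc := congrArg (fun k : ℕ => (k : ℂ)) (card_quotient_parabolic (F := F) hμ)
    simp only [Nat.cast_mul, Nat.cast_prod] at hc
    rw [hfix, ← hc, ← sum_choose_two, ← Equiv.sum_comp κ (fun j => j.val.choose 2), ← prod_pow_eq_pow_sum]
    have hterm : ∀ i, (q : ℂ) ^ (κ i).val.choose 2 * ((qfact q (a i) : ℕ) : ℂ) = ((qfact q (μ i) : ℕ) : ℂ) *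
        ∏ l ∈ range (κ i).val, (X i - ((∑ r ∈ range l, q ^ r : ℕ) : ℂ)) := fun i => by
      rw [← qdesc_mul_pow, qfact_eq_qdesc_mul q (h i), Nat.cast_mul]
      ring
    rw [mul_assoc ((Equiv.Perm.sign κ : ℤ) : ℂ), mul_assoc ((Equiv.Perm.sign κ : ℤ) : ℂ), mul_assoc (Nat.card _ : ℂ),
      ← prod_mul_distrib, prod_congr rfl fun i _ => hterm i, prod_mul_distrib]
    ring
  · rw [if_neg h, zero_mul, zero_mul]
    push Not at h
    obtain ⟨i, hi⟩ := h
    rw [prod_eq_zero (mem_univ i) (prod_eq_zero (mem_range.2 hi) (sub_self _)), mul_zero, mul_zero]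

theorem degree_re_pos {ν : Fin n → ℕ} (hmono : Monotone ν) (hsum : ∑ i, ν i = n) :
    0 ≤ (Cfsg.unipotentCharacterGL n F ν 1).re := by
  set q := Fintype.card F
  have h := degree_eq (F := F) hsum
  have hle : ∀ i : Fin n, ∀ j ∈ Ioi i, (∑ l ∈ range (ν i + i.val), q ^ l) ≤ ∑ l ∈ range (ν j + j.val), q ^ l :=
    fun i j hj => sum_le_sum_of_subset (range_subset_range.2 ((strictMono_shift hmono).monotone (mem_Ioi.1 hj).le))
  rw [prod_congr rfl (fun i _ => prod_congr rfl fun j hj => (Nat.cast_sub (hle i j hj)).symm)] at h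
  simp only [← Nat.cast_prod, ← Nat.cast_mul, ← Nat.cast_pow] at h
  rw [mul_assoc, ← Nat.cast_mul] at h
  have hpos : 0 < q ^ (n * (n - 1) * (n - 2) / 6) * ∏ i : Fin n, qfact q (ν i + i.val) :=
    Nat.mul_pos (pow_pos Fintype.card_pos _) (prod_pos fun i _ => qfact_pos _ _)
  rw [← eq_div_iff (by exact_mod_cast hpos.ne')] at h
  rw [h, ← Complex.ofReal_natCast, ← Complex.ofReal_natCast, ← Complex.ofReal_div, Complex.ofReal_re]
  positivity

theorem isIrr_unipotent [Fintype (GL (Fin n) F)] {ν : Fin n → ℕ} (hmono : Monotone ν) (hsum : ∑ i, ν i = n) :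
    Cfsg.IsIrrCharacter (GL (Fin n) F) (Cfsg.unipotentCharacterGL n F ν) := by
  classical
  refine CfsgLib.Chars.irr_of_norm_one ?_ ?_ (degree_re_pos hmono hsum)
  · have hP : ∀ μ, Cfsg.IsCharacter (GL (Fin n) F) (Cfsg.fixedPointCharacter (Cfsg.parabolicGL n F μ)) :=
      fun μ => CfsgLib.Chars.isCharacter_fixedBy
    refine CfsgLib.Chars.isGeneralized_iff_inner.2 ⟨?_, fun χ => ?_⟩
    · intro g x
      simp only [Cfsg.unipotentCharacterGL]
      refine sum_congr rfl fun κ _ => ?_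
      rw [CfsgLib.Chars.isClassFunction_of_isCharacter (hP _) g x]
    · have hint : ∀ κ : Equiv.Perm (Fin n), ∃ z : ℤ, Cfsg.classInner (fun g =>
          if ∀ i : Fin n, (κ i).val ≤ ν i + i.val then ((Equiv.Perm.sign κ : ℤ) : ℂ) *
            Cfsg.fixedPointCharacter (Cfsg.parabolicGL n F fun i => ν i + i.val - (κ i).val) g else 0) χ = z := by
        intro κ
        split_ifs
        · obtain ⟨k, hk⟩ := CfsgLib.Chars.inner_irr_right_nat (hP fun i => ν i + i.val - (κ i).val) χ
          refine ⟨(Equiv.Perm.sign κ : ℤ) * k, ?_⟩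
          rw [show (fun g => ((Equiv.Perm.sign κ : ℤ) : ℂ) * _) = ((Equiv.Perm.sign κ : ℤ) : ℂ) •
            Cfsg.fixedPointCharacter (Cfsg.parabolicGL n F fun i => ν i + i.val - (κ i).val) from rfl,
            CfsgLib.Chars.inner_smul_left, hk]
          push_cast
          rfl
        · exact ⟨0, by rw [Int.cast_zero]; exact CfsgLib.Chars.inner_zero_left (G := GL (Fin n) F) _⟩
      choose z hz using hint
      refine ⟨∑ κ, z κ, ?_⟩
      rw [Int.cast_sum, ← sum_congr rfl fun κ _ => hz κ, ← CfsgLib.Chars.inner_sum_left]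
      congr 1
      funext g
      rw [Finset.sum_apply]
      rfl
  · rw [inner_unipotent hmono hsum hmono hsum, if_pos rfl]

end CfsgLib.KnownB.Flags
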